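import Cfsg.Agent.PrimeOne.LtMain
import Cfsg.Agent.PrimeOne.Brauer3
import Cfsg.Agent.Solv.PSolvable

/-!
# Simple groups with fewer than `p ^ 2` Sylow `p`-subgroups
-/

set_option autoImplicit false

open Cfsg Cfsg.Lib.Char Cfsg.Lib.Block Cfsg.Lib.Solv Subgroup MulAction Cfsg.Lib.Known
  MatrixGroups

namespace Cfsg.Lib.PrimeOne.Lt

open Princ

universe u

variable {p : ℕ} [hp : Fact p.Prime]

theorem card_sylow_dvd {G : Type*} [Group G] [Finite G] {m : ℕ} (h : Nat.card G = p * m) :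
    Nat.card (Sylow p G) ∣ m := by
  obtain ⟨P⟩ : Nonempty (Sylow p G) := inferInstance
  refine Nat.Coprime.dvd_of_dvd_mul_left ?_ (h ▸ P.card_dvd_index.trans (index_dvd_card _))
  exact ((Nat.Prime.coprime_iff_not_dvd hp.out).2 (not_dvd_card_sylow p G)).symm

/-- The simple groups with fewer than `p ^ 2` Sylow `p`-subgroups. -/
def Res (p : ℕ) [Fact p.Prime] (G : Type*) [Group G] : Prop :=
  3 < p ∧ ((Nat.card (Sylow p G) = p + 1 ∧ Nonempty (G ≃* PSL(2, ZMod p))) ∨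
    (∃ m : ℕ, p = 2 ^ m + 1 ∧ Nat.card G = p * ((p - 1) * (p - 2)) ∧
      2 * Nat.card (Sylow p G) = (p - 1) * (p - 2) ∧
      ∀ (F : Type) [Field F] [Fintype F], Fintype.card F = 2 ^ m → Nonempty (G ≃* PSL(2, F))) ∨
    (∃ m : ℕ, p + 1 = 2 ^ m ∧ Nat.card G = p * ((p + 1) * (p + 2)) ∧
      2 * Nat.card (Sylow p G) = (p + 1) * (p + 2) ∧
      ∀ (F : Type) [Field F] [Fintype F], Fintype.card F = 2 ^ m → Nonempty (G ≃* PSL(2, F))) ∨
    (p = 13 ∧ Nat.card (Sylow p G) = 144 ∧ ∀ (F : Type) [Field F] [Fintype F],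
      Fintype.card F = 3 → Nonempty (G ≃* Matrix.ProjectiveSpecialLinearGroup (Fin 3) F)))

theorem res_of_IH {G : Type u} [Group G] [Finite G] [IsSimpleGroup G] (hG : ¬ IsMulCommutative G)
    (hd : p ∣ Nat.card G) (hN : Nat.card (Sylow p G) < p ^ 2) (hI : IH p G) : Res p G := by
  obtain ⟨P⟩ : Nonempty (Sylow p G) := inferInstance
  have h1 := one_lt_card_sylow hG hd
  have hP := card_sylow_eq_prime hN.le h1.ne' P
  obtain ⟨n, hn⟩ := exists_card_sylow_eq p G
  have hn1 : 1 * p ≤ n * p := Nat.mul_le_mul_right _ (Nat.pos_of_ne_zero (by rintro rfl; omega))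
  by_cases hrep : Rep p n
  · obtain ⟨a, s, x, hpar⟩ := exists_par hrep (by
      by_contra h2
      have := Nat.mul_le_mul_right p (not_lt.1 h2)
      rw [sq] at hN
      omega)
    have := Fintype.ofFinite G
    obtain ⟨M, hM⟩ := exists_isPModular hp.out
    obtain ⟨t, X, Y, δ, ε, h⟩ := exists_B0 hM P hP
    exact ⟨by have := hpar.five_le; omega,
      Or.inr (Or.inr (main hP (cz_le_of_par hG hd hN hpar hn hI P) h rfl hpar hn hG))⟩
  obtain ⟨h3, h4⟩ := core hP (commutator_eq_top hG) (pPrimeCore_eq_bot hG hp.out hd) hn hrep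
  have hp5 : 5 ≤ p := hp.out.five_le_of_ne_two_of_ne_three (by omega) (by omega)
  obtain ⟨q, rfl⟩ : ∃ q, p = q + 3 := ⟨p - 3, by omega⟩
  refine ⟨h3, h4.elim (fun h4 => Or.inl ⟨?_, h4.2⟩) fun ⟨m, h4, h5, h6⟩ =>
    Or.inr (Or.inl ⟨m, h4, by rw [h5, mul_assoc], ?_, h6⟩)⟩
  · obtain ⟨k, hk⟩ := hd
    obtain ⟨d, rfl⟩ := card_sylow_dvd hk
    rw [hk, hn, mul_left_comm] at h4
    have h5 := Nat.eq_of_mul_eq_mul_left (by omega) h4.1
    rw [eq_comm, Nat.sub_eq_iff_eq_add (Nat.one_le_pow _ _ (by omega))] at h5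
    obtain ⟨c, hc⟩ : ((q + 3 : ℕ) : ℤ) ∣ 2 * d + 1 :=
      ⟨q + 3 - 2 * n * d, by zify at h5; push_cast; linear_combination -h5⟩
    have h6 : (1 : ℤ) ≤ c := by
      by_contra h6
      have : ((q + 3 : ℕ) : ℤ) * c ≤ 0 := mul_nonpos_of_nonneg_of_nonpos (by omega) (by omega)
      omega
    have h7 : q + 2 ≤ 2 * d := by
      have := mul_le_mul_of_nonneg_left h6 (show (0 : ℤ) ≤ (q + 3 : ℕ) by omega)
      omega
    have h8 : (1 + n * (q + 3)) * (q + 2) ≤ (q + 4) * (q + 2) := by nlinarith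
    have h9 := Nat.le_of_mul_le_mul_right h8 (by omega)
    omega
  · obtain ⟨d, h7⟩ := card_sylow_dvd (h5.trans (mul_assoc _ _ _))
    rw [h7, mul_comm]
    congr 1
    refine ((two_or_le (c := q) hp5 (card_sylow_modEq_one _ G) (by
      rw [← h7, show q + 3 - 1 = q + 2 from rfl, show q + 3 - 2 = q + 1 from rfl]
      ring)).resolve_right fun h8 => ?_).symm
    have := Nat.mul_le_mul (show q + 4 ≤ Nat.card (Sylow (q + 3) G) by omega) h8
    rw [← h7, show q + 3 - 1 = q + 2 from rfl, show q + 3 - 2 = q + 1 from rfl] at this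
    nlinarith

theorem res (G : Type u) [Group G] [Finite G] : IsSimpleGroup G → ¬ IsMulCommutative G →
    p ∣ Nat.card G → Nat.card (Sylow p G) < p ^ 2 → Res p G := by
  refine card_induction (P := fun G _ _ => IsSimpleGroup G → ¬ IsMulCommutative G →
    p ∣ Nat.card G → Nat.card (Sylow p G) < p ^ 2 → Res p G) ?_ G
  intro G _ _ ih _ hG hd hN
  refine res_of_IH hG hd hN fun S _ _ _ hS hlt h1 h2 => ?_
  rcases (ih S hlt inferInstance hS h1 h2).2 with h | ⟨m, -, h, h', -⟩ | ⟨m, -, h, h', -⟩ | h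
  exacts [Or.inl h.1, Or.inr (Or.inl ⟨h', h⟩), Or.inr (Or.inr (Or.inl ⟨h', h⟩)),
    Or.inr (Or.inr (Or.inr ⟨h.1, h.2.1⟩))]

theorem card_sylow_eq_one {G : Type*} [Group G] [Finite G] (h : ¬ p ∣ Nat.card G) :
    Nat.card (Sylow p G) = 1 := by
  obtain ⟨P⟩ : Nonempty (Sylow p G) := inferInstance
  have h1 : (P : Subgroup G) = ⊥ := by
    by_contra h1
    exact h ((P.2.card_eq_or_dvd.resolve_left fun h2 => h1 (card_eq_one.1 h2)).trans
      (card_subgroup_dvd_card _))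
  haveI : (P : Subgroup G).Normal := h1 ▸ inferInstance
  haveI := P.unique_of_normal this
  exact Nat.card_unique

theorem eq_one_or {n m : ℕ} (hn : n ≡ 1 [MOD p]) (h : n < p ^ 2) (hm : m ≡ 1 [MOD p])
    (hd : m ∣ n) : m = 1 ∨ m = n := by
  obtain ⟨k, rfl⟩ := hd
  by_contra hc
  push Not at hc
  exact absurd (succ_mul_succ_le hm (modEq_one_of_mul hm hn) hc.1 fun h1 =>
    hc.2 (by rw [h1, mul_one])) h.not_gt

theorem pow_modEq_of_isPSolvable (G : Type u) [Group G] [Finite G] (h : IsPSolvable p G) :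
    ∀ q : ℕ, q.Prime → q ^ (Nat.card (Sylow p G)).factorization q ≡ 1 [MOD p] := by
  refine IsPSolvable.induction (P := fun G _ _ => ∀ q : ℕ, q.Prime →
    q ^ (Nat.card (Sylow p G)).factorization q ≡ 1 [MOD p]) ?_ ?_ G h
  · intro G _ _ _ q _
    rw [card_sylow_eq_one (by rw [Nat.card_unique]; exact hp.out.not_dvd_one)]
    simp [Nat.ModEq]
  intro G _ _ N _ _ _ hN ih q hq
  rcases hN with hN | hN
  · rw [← card_sylow_quotient_of_isPGroup N hN]
    exact ih q hq
  obtain ⟨P⟩ : Nonempty (Sylow p G) := inferInstance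
  have hK : ¬ p ∣ Nat.card N := (Nat.Prime.coprime_iff_not_dvd hp.out).1 hN.symm
  have h0 : (P : Subgroup G) ⊓ N = ⊥ := (Trans.isSylowIn_inf_of_normal P N).eq_bot_iff.2 hK
  have hPK : (P : Subgroup G) ≤ normalizer (N : Set G) := by
    rw [normalizer_eq_top]; exact le_top
  have h3 : (normalizer ((P : Subgroup G) : Set G)).relIndex N =
      (centralizer ((P : Subgroup G) : Set G)).relIndex N := by
    rw [← inf_relIndex_right, ← inf_relIndex_right (centralizer _)]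
    congr 1
    refine le_antisymm (le_inf ?_ inf_le_right) (inf_le_inf_right _ (centralizer_le_normalizer _))
    refine le_centralizer_of_disjoint inf_le_left
      (le_normalizer_inf (le_normalizer.trans (normalizer_le_normalizer_normalizer _)) hPK) ?_
    rw [eq_bot_iff, ← h0]
    exact le_inf inf_le_right (inf_le_left.trans inf_le_right)
  rw [card_sylow_eq_card_sylow_quotient_mul P N, h3, Nat.factorization_mul Nat.card_pos.ne'
    (show (centralizer ((P : Subgroup G) : Set G)).relIndex N ≠ 0 from index_ne_zero_of_finite),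
    Finsupp.add_apply, pow_add]
  simpa using (ih q hq).mul (Cfsg.Agent.S4303.coprime_part P.isPGroup' hPK hK q hq)

theorem exists_pow_of_isPSolvable {G : Type*} [Group G] [Finite G] (h : IsPSolvable p G)
    (hn : Nat.card (Sylow p G) < p ^ 2) : ∃ q k : ℕ, q.Prime ∧ Nat.card (Sylow p G) = q ^ k := by
  by_cases h1 : Nat.card (Sylow p G) = 1
  · exact ⟨2, 0, Nat.prime_two, h1⟩
  obtain ⟨q, hq, hqd⟩ := Nat.exists_prime_and_dvd h1
  refine ⟨q, _, hq, ((eq_one_or (card_sylow_modEq_one p G) hn (pow_modEq_of_isPSolvable G h q hq)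
    (Nat.ordProj_dvd _ _)).resolve_left fun h2 => ?_).symm⟩
  have := hq.factorization_pos_of_dvd Nat.card_pos.ne' hqd
  exact (Nat.pow_eq_one.1 h2).elim hq.ne_one this.ne'

theorem isPSolvable_of_pow (hp' : ¬ (3 < p ∧ ∃ k : ℕ, p + 1 = 2 ^ k)) (G : Type u) [Group G]
    [Finite G] : Nat.card (Sylow p G) < p ^ 2 →
      (∃ q k : ℕ, q.Prime ∧ Nat.card (Sylow p G) = q ^ k) → IsPSolvable p G := by
  refine card_induction (P := fun G _ _ => Nat.card (Sylow p G) < p ^ 2 →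
      (∃ q k : ℕ, q.Prime ∧ Nat.card (Sylow p G) = q ^ k) → IsPSolvable p G) ?_ G
  rintro G _ _ ih hn ⟨q, k, hq, hk⟩
  rcases subsingleton_or_nontrivial G with hG | hG
  · exact IsPSolvable.of_subsingleton
  by_cases hs : IsSimpleGroup G
  · by_cases hc : IsMulCommutative G
    · haveI : Group.IsSolvable G := isSolvable_of_comm hc.is_comm.comm
      exact IsPSolvable.of_isSolvable p G
    by_cases hd : p ∣ Nat.card G
    swap
    · exact IsPSolvable.of_coprime ((Nat.Prime.coprime_iff_not_dvd hp.out).2 hd).symm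
    exfalso
    obtain ⟨h3, h⟩ := res G hs hc hd hn
    have key : 2 ∣ q ^ k → q = 2 := fun h2 =>
      ((Nat.prime_dvd_prime_iff_eq Nat.prime_two hq).1 (Nat.prime_two.dvd_of_dvd_pow h2)).symm
    rw [hk] at h
    rcases h with ⟨h, -⟩ | ⟨m, h1, -, h, -⟩ | ⟨m, h, -⟩ | ⟨-, h, -⟩
    · obtain rfl := key (by
        have := hp.out.eq_two_or_odd
        omega)
      exact hp' ⟨h3, k, h.symm⟩
    · obtain ⟨m, rfl⟩ : ∃ j, m = j + 2 := ⟨m - 2, by
        by_contra h2
        have : m ≤ 1 := by omega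
        interval_cases m <;> omega⟩
      rw [show p - 1 = 2 * (2 * 2 ^ m) by rw [h1, Nat.add_sub_cancel]; ring, mul_assoc] at h
      replace h := Nat.eq_of_mul_eq_mul_left (by norm_num) h
      obtain rfl := key (h ▸ (dvd_mul_right _ _).mul_right _)
      obtain ⟨j, -, hj⟩ := (Nat.dvd_prime_pow Nat.prime_two).1 (Dvd.intro_left _ h.symm)
      rcases j with _ | j
      · omega
      · rw [pow_succ] at hj h1
        omega
    · exact hp' ⟨h3, m, h⟩
    · obtain rfl := key (h ▸ by norm_num)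
      exact absurd (Nat.prime_three.dvd_of_dvd_pow (h ▸ by norm_num : 3 ∣ 2 ^ k)) (by norm_num)
  obtain ⟨K, hK, hK0, hK1⟩ : ∃ K : Subgroup G, K.Normal ∧ K ≠ ⊥ ∧ K ≠ ⊤ := by
    by_contra hne
    refine hs ⟨fun K hK => ?_⟩
    by_contra h
    push Not at h
    exact hne ⟨K, hK, h⟩
  obtain ⟨P⟩ : Nonempty (Sylow p G) := inferInstance
  have h1 := card_sylow_eq_mul_mul P K
  have key : ∀ m, m ∣ Nat.card (Sylow p G) → m < p ^ 2 ∧ ∃ q k : ℕ, q.Prime ∧ m = q ^ k :=
    fun m hm => ⟨(Nat.le_of_dvd Nat.card_pos hm).trans_lt hn, by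
      obtain ⟨j, -, hj⟩ := (Nat.dvd_prime_pow hq).1 (hk ▸ hm)
      exact ⟨q, j, hq, hj⟩⟩
  have h2 := key _ (h1 ▸ (dvd_mul_left _ _).mul_right _ : Nat.card (Sylow p K) ∣ _)
  have h3 := key _ (h1 ▸ (dvd_mul_right _ _).mul_right _ : Nat.card (Sylow p (G ⧸ K)) ∣ _)
  exact IsPSolvable.extension K (ih _ (card_lt_of_ne_top hK1) h2.1 h2.2)
    (ih _ (card_quotient_lt hK0) h3.1 h3.2)

end Cfsg.Lib.PrimeOne.Lt
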