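import Cfsg.Agent.PrimeOne.Lt5616
import Cfsg.Agent.PrimeOne.BT
import Cfsg.Agent.Rank2.SimpleSyl

/-!
# Self-centralizing Sylow subgroups of prime order with fewer than `p ^ 2` conjugates
-/

set_option autoImplicit false

open scoped ComplexConjugate
open Cfsg Cfsg.Lib.Char Cfsg.Lib.Block Cfsg.Lib.Solv Subgroup MulAction Cfsg.Lib.Known
  MatrixGroups

namespace Cfsg.Lib.PrimeOne.Lt

open Princ

theorem eq_one_of_dvd {a b r : ℕ} (h : a.Coprime b) (hr : r.Prime) (h1 : r ∣ a) : ¬ r ∣ b :=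
  fun h2 => hr.ne_one (Nat.eq_one_of_dvd_coprimes h h1 h2)

theorem par_cop {p n a s x : ℕ} (h : Par p n a s x) :
    a.Coprime p ∧ s.Coprime p ∧ s.Coprime x ∧ a.Coprime (p + a) := by
  have h1 : a.Coprime p := by rw [← h.hp]; simp
  have h2 : s.Coprime p := by rw [← h.hp]; simp
  exact ⟨h1, h2, by rw [← h.hx] at h2; simpa using h2, by simpa using h1⟩

variable {G : Type*} [Group G] [Fintype G]

theorem vanish {d m r : ℕ} (hG : Nat.card G = d * m) (hr : r.Prime) (hm : ¬ r ∣ m)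
    {χ : IrrCharacter G} (hd : d ∣ deg χ) {g : G} (hg : r ∣ orderOf g) : (χ : G → ℂ) g = 0 := by
  obtain ⟨k, hk⟩ := deg_dvd_card χ
  obtain ⟨j, hj⟩ := hd
  refine apply_eq_zero_of_card_eq χ hr hk (fun h => hm ?_) hg
  have h0 : 0 < d := Nat.pos_of_ne_zero fun h0 => by
    rw [h0, zero_mul] at hG; exact Nat.card_pos.ne' hG
  rw [hG, hj, mul_assoc] at hk
  rw [Nat.eq_of_mul_eq_mul_left h0 hk]
  exact h.mul_left _

variable {p : ℕ} [hp : Fact p.Prime] {P : Sylow p G}
  (hP : Nat.card P = p) (hC : cz P ≤ P)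
  {M : Ideal AlgInt} {e t : ℕ} {X Y : Finset (IrrCharacter G)}
  {δ : IrrCharacter G → ℤ} {ε : ℤ} (h : B0 p M e t X Y δ ε)
include h

omit hp in
theorem not_vanish {θ : IrrCharacter G} (hθ : θ ∈ Y) {g : G} (hg : ¬ p ∣ orderOf g)
    (h1 : (θ : G → ℂ) g = 0) (h2 : ∀ χ ∈ X, χ ≠ triv G → (χ : G → ℂ) g = 0) : False := by
  classical
  have h3 := h.rel θ hθ g hg
  rw [← Finset.add_sum_erase _ _ h.triv_mem, h.δ_triv, h1, Finset.sum_eq_zero fun χ hχ => by
    rw [h2 χ (Finset.mem_erase.1 hχ).2 (Finset.mem_erase.1 hχ).1, mul_zero]] at h3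
  simp at h3

omit hp in
theorem sum_sq_le : ∑ χ ∈ X, deg χ ^ 2 + ∑ χ ∈ Y, deg χ ^ 2 ≤ Nat.card G := by
  rw [← h.sum_princ, ← sum_deg_sq]
  exact Finset.sum_le_sum_of_subset (Finset.subset_univ _)

variable (he : (cz P).relIndex (nz P) = e) {n a s x : ℕ} (hpar : Par p n a s x)
  (hn : Nat.card (Sylow p G) = 1 + n * p) (hperf : commutator G = ⊤)
include hP hC he hpar hn

omit h hpar in
theorem card_eq : Nat.card G = p * (e * (1 + n * p)) := by
  rw [card_eq_of_centralizer_le hP hC, he, hn]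

theorem not_big {χ : IrrCharacter G} {k : ℕ} (hk : e ≤ k) (hk0 : 0 < k) :
    deg χ ≠ k * (1 + n * p) := fun hd => by
  have h1 : deg χ ^ 2 ≤ Nat.card G := by
    rw [← sum_deg_sq]
    exact Finset.single_le_sum (f := fun χ => deg χ ^ 2) (fun _ _ => Nat.zero_le _)
      (Finset.mem_univ χ)
  have h2 := hpar.le_two_mul_n
  have h3 : p * 2 ≤ p * n := Nat.mul_le_mul_left _ (by have := hpar.five_le; omega)
  rw [hd, card_eq hP hC he hn, sq] at h1
  have h4 := Nat.le_of_mul_le_mul_right (h1.trans (Nat.mul_le_mul_left p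
    (Nat.mul_le_mul_right _ hk))) (by positivity)
  have h5 : 1 * (1 + n * p) ≤ k * (1 + n * p) := Nat.mul_le_mul_right _ hk0
  nlinarith

theorem X_neg' {χ : IrrCharacter G} (hχ : χ ∈ X) (h1 : δ χ = -1) :
    deg χ = p - 1 ∨ deg χ = s * (p + a) := by
  have h2 := sub_eq hP h
  have h3 := Nat.le_mul_of_pos_right e h.t_pos
  rcases X_neg hP h he hpar hn hχ h1 with h4 | h4 | h4
  exacts [Or.inl h4, (not_big hP hC h he hpar hn (by omega) (by have := h.e_pos; omega) h4).elim,
    Or.inr h4]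

include hperf

omit hpar hn hperf in
theorem exists_gamma (he2 : 2 ≤ e) : ∃ γ : G, orderOf γ = e ∧ ¬ p ∣ orderOf γ ∧
    ∀ χ ∈ X, δ χ = -1 → deg χ = p - 1 → (χ : G → ℂ) γ = 0 := by
  obtain ⟨γ, hγ, hγe, -⟩ := exists_gen hP hC he
  have h1 : ¬ p ∣ orderOf γ := fun h1 => by
    have h2 := het hP h
    have h3 := Nat.le_mul_of_pos_right e h.t_pos
    have := Nat.le_of_dvd (by omega) (hγe ▸ h1)
    omega
  refine ⟨γ, hγe, h1, fun χ hχ h2 h3 => apply_eq_zero_of_deg hP χ.2.isCharacter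
    (by rw [← deg_cast, h3, Nat.cast_sub hp.out.one_le, Nat.cast_one])
    (fun g hg => by rw [h.val_X χ hχ g hg, h2]; simp) hγ fun h4 => ?_⟩
  refine not_mem_of_not_dvd hP ?_ h1 (hC h4)
  rintro rfl
  rw [orderOf_one] at hγe
  omega

theorem two_le_t : 2 ≤ t := by
  classical
  by_contra hc
  obtain rfl : t = 1 := by have := h.t_pos; omega
  have h5 := hpar.five_le
  have h1 := het hP h
  have hes : e = a * s := by have := hpar.hp; omega
  have key : ∀ χ : IrrCharacter G, deg χ = p - 1 →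
      (∀ g, p ∣ orderOf g → (χ : G → ℂ) g = -1) → False := fun χ h2 hv => by
    have := even_of_deg hP hperf hC χ.2.isCharacter
      (by rw [← deg_cast, h2, Nat.cast_sub hp.out.one_le, Nat.cast_one]) hv he h1 (by
        obtain ⟨k, hk⟩ := hp.out.odd_of_ne_two (by omega)
        exact ⟨k, by omega⟩)
    simp at this
  obtain ⟨θ, hθ⟩ := h.Y_nonempty
  have hb : ∀ χ ∈ X, δ χ = -1 → deg χ = s * (p + a) := fun χ hχ h2 =>
    (X_neg' hP hC h he hpar hn hχ h2).resolve_left fun h3 =>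
      key χ h3 fun g hg => by rw [h.val_X χ hχ g hg, h2]; simp
  have hY : (ε = -1 ∧ deg θ = a * x) ∨ (ε = 1 ∧ deg θ = s * (p + a)) := by
    rcases Y_cases hP h he hpar hn hperf hθ with ⟨h2, h3⟩ | ⟨h2, h3 | h3 | h3⟩
    · exact Or.inl ⟨h2, by simpa using h3.resolve_left (mul_deg_ne hP hC h he hpar hn h2 hθ)⟩
    · exact (key θ (by omega) fun g hg => by rw [h.val_Y rfl hθ hg, h2]; simp).elim
    · exact (not_big hP hC h he hpar hn le_rfl h.e_pos h3).elim
    · exact Or.inr ⟨h2, by simpa using h3⟩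
  have hG : Nat.card G = p * ((a * x) * (s * (p + a))) := by
    rw [card_eq hP hC he hn, hpar.mul_eq, show p - 1 = e by omega]
  have hD : ∑ χ ∈ X.filter (fun χ => δ χ = -1), δ χ * deg χ =
      -((X.filter (fun χ => δ χ = -1)).card * (s * (p + a)) : ℕ) := by
    rw [Finset.sum_congr rfl (g := fun _ => -((s * (p + a) : ℕ) : ℤ)) fun χ hχ => by
      rw [hb χ (Finset.mem_filter.1 hχ).1 (Finset.mem_filter.1 hχ).2, (Finset.mem_filter.1 hχ).2,
        neg_one_mul]]
    simp
  have hrel := h.deg_rel hθ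
  rw [h.sum_X, hD, h.δ_triv, deg_triv, Finset.sum_congr rfl (g := fun χ => (deg χ : ℤ))
    fun χ hχ => by rw [(Finset.mem_filter.1 hχ).2, one_mul], ← Nat.cast_sum] at hrel
  have ha : ∀ χ ∈ (X.erase (triv G)).filter (fun χ => δ χ = 1), deg χ = a * x := fun χ hχ => by
    obtain ⟨h2, h3⟩ := Finset.mem_filter.1 hχ
    refine (X_pos hP h he hpar hn hperf (Finset.mem_erase.1 h2).2 h3
      (Finset.mem_erase.1 h2).1).resolve_left fun h4 => ?_
    have h6 := Finset.single_le_sum (f := fun χ => deg χ) (fun _ _ => Nat.zero_le _) hχ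
    have h7 := Finset.single_le_sum (f := fun χ => deg χ ^ 2) (fun _ _ => Nat.zero_le _) hχ
    have h8 := Finset.single_le_sum (f := fun χ => deg χ ^ 2) (fun _ _ => Nat.zero_le _) hθ
    have h9 := sum_sq_le h
    rw [h.sum_X, Finset.sum_congr (s₁ := X.filter fun χ => δ χ = -1) rfl
      (g := fun _ => (s * (p + a)) ^ 2) fun χ hχ => by
        rw [hb χ (Finset.mem_filter.1 hχ).1 (Finset.mem_filter.1 hχ).2], Finset.sum_const,
      smul_eq_mul, card_eq hP hC he hn] at h9
    simp only [h4] at h6 h7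
    have h10 : 1 + n * p + s * (p + a) = p * (p + a) := by rw [hpar.N_eq, ← add_mul, hpar.hx]
    generalize 1 + n * p = N at *
    generalize s * (p + a) = z at *
    generalize (X.filter (fun χ => δ χ = -1)).card = D at *
    obtain ⟨D', h11, h12⟩ : ∃ D', N + 1 ≤ D' * z ∧ N ^ 2 + D' * z ^ 2 ≤ p * (e * N) := by
      rcases hY with ⟨rfl, h11⟩ | ⟨rfl, h11⟩
      · exact ⟨D, by omega, by omega⟩
      · simp only [h11] at h8 hrel
        exact ⟨D + 1, by rw [add_mul]; omega, by rw [add_mul]; omega⟩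
    have h13 : (N + 1) * z ≤ D' * z * z := Nat.mul_le_mul_right _ h11
    have h14 : p * e * N ≤ p * (p + a) * N := by gcongr; omega
    have h15 : 0 < z := Nat.pos_of_ne_zero (by rintro rfl; omega)
    rw [← h10] at h14
    nlinarith
  rw [Finset.sum_congr rfl ha, Finset.sum_const, smul_eq_mul] at hrel
  have hcop : (a * x).Coprime (s * (p + a)) := by
    rw [← Nat.isCoprime_iff_coprime]
    generalize (X.filter (fun χ => δ χ = -1)).card = D at *
    generalize ((X.erase (triv G)).filter (fun χ => δ χ = 1)).card = A at *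
    rcases hY with ⟨rfl, h11⟩ | ⟨rfl, h11⟩
    · exact ⟨-(A + 1), D, by rw [h11] at hrel; push_cast at hrel ⊢; linear_combination hrel⟩
    · exact ⟨-A, D + 1, by rw [h11] at hrel; push_cast at hrel ⊢; linear_combination hrel⟩
  obtain ⟨γ, hγ, hγp, -⟩ := exists_gamma hP hC h he (by omega)
  obtain ⟨q, hq, hqa⟩ := Nat.exists_prime_and_dvd (n := a) (by have := hpar.two_le; omega)
  obtain ⟨r, hr, hrs⟩ := Nat.exists_prime_and_dvd (n := s) (by have := hpar.two_le_s; omega)
  obtain ⟨c1, c2, -, -⟩ := par_cop hpar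
  have hv : ∀ χ : IrrCharacter G, deg χ = a * x ∨ deg χ = s * (p + a) → (χ : G → ℂ) γ = 0 := by
    rintro χ (h2 | h2)
    · exact vanish (m := p * (s * (p + a))) (by rw [hG]; ring) hq (fun h3 =>
        ((Nat.Prime.dvd_mul hq).1 h3).elim (eq_one_of_dvd c1 hq hqa)
          (eq_one_of_dvd hcop hq (hqa.mul_right _))) h2.symm.dvd
        (by rw [hγ, hes]; exact hqa.mul_right _)
    · exact vanish (m := p * (a * x)) (by rw [hG]; ring) hr (fun h3 =>
        ((Nat.Prime.dvd_mul hr).1 h3).elim (eq_one_of_dvd c2 hr hrs)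
          (eq_one_of_dvd hcop.symm hr (hrs.mul_right _))) h2.symm.dvd
        (by rw [hγ, hes]; exact hrs.mul_left _)
  exact not_vanish h hθ hγp (hv θ (hY.imp And.right And.right)) fun χ hχ h2 =>
    hv χ ((h.sign_X χ hχ).imp
      (fun h3 => ha χ (Finset.mem_filter.2 ⟨Finset.mem_erase.2 ⟨h2, hχ⟩, h3⟩)) (hb χ hχ))

theorem X_pos' {χ : IrrCharacter G} (hχ : χ ∈ X) (h1 : δ χ = 1) (h2 : χ ≠ triv G) :
    deg χ = a * x := by
  refine (X_pos hP h he hpar hn hperf hχ h1 h2).resolve_left fun h3 => ?_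
  have h4 : deg χ ^ 2 ≤ Nat.card G := by
    rw [← sum_deg_sq]
    exact Finset.single_le_sum (f := fun χ => deg χ ^ 2) (fun _ _ => Nat.zero_le _)
      (Finset.mem_univ χ)
  rw [h3, card_eq hP hC he hn, sq, ← mul_assoc] at h4
  have h5 := Nat.le_of_mul_le_mul_right h4 (by omega)
  have h6 := Nat.mul_le_mul_left e (two_le_t hP hC h he hpar hn hperf)
  have h7 := het hP h
  have h8 := hpar.le_two_mul_n
  have h9 : p * e ≤ p * n := Nat.mul_le_mul_left _ (by omega)
  rw [mul_comm n] at h5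
  omega

open Classical in
/-- The numbers of characters of the three possible degrees. -/
theorem exists_counts {θ : IrrCharacter G} (hθ : θ ∈ Y) : ∃ A C D : ℕ,
    ((X.erase (triv G)).filter (fun χ => δ χ = 1)).card = A ∧
    (X.filter (fun χ => δ χ = -1)).card = C + D ∧ e = 1 + A + C + D ∧
    ε * deg θ = e + p * (A * (a - 1) - C - D * (s + 1)) ∧
    (1 ≤ A → t ∣ s * (p + a)) ∧ (1 ≤ C → t ∣ x * (p + a)) ∧ (1 ≤ D → t ∣ a * x) ∧
    (C = 0 → ∀ χ ∈ X, δ χ = -1 → deg χ = s * (p + a)) ∧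
    (D = 0 → ∀ χ ∈ X, δ χ = -1 → deg χ = p - 1) := by
  set Xb := X.filter (fun χ => δ χ = -1) with hXb
  have h1 := Finset.card_filter_add_card_filter_not (s := Xb) (fun χ => deg χ = p - 1)
  have h2 : ∀ χ ∈ Xb.filter (fun χ => ¬ deg χ = p - 1), deg χ = s * (p + a) := fun χ hχ => by
    simp only [hXb, Finset.mem_filter] at hχ
    exact (X_neg' hP hC h he hpar hn hχ.1.1 hχ.1.2).resolve_left hχ.2
  have h3 : ∀ χ ∈ (X.erase (triv G)).filter (fun χ => δ χ = 1), deg χ = a * x := fun χ hχ => by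
    simp only [Finset.mem_filter, Finset.mem_erase] at hχ
    exact X_pos' hP hC h he hpar hn hperf hχ.1.2 hχ.2 hχ.1.1
  have h4 : e = 1 + ((X.erase (triv G)).filter (fun χ => δ χ = 1)).card + Xb.card := by
    have := h.sum_X (fun _ => 1)
    simpa [h.card_X] using this
  have h5 : ∀ χ ∈ X, ∀ {u v : ℕ}, deg χ = u → u * v = (p - 1) * (1 + n * p) → t ∣ v := by
    rintro χ hχ u v rfl h5
    obtain ⟨k, hk⟩ := X_dvd hP h he hn hχ
    rw [sub_eq hP h, mul_right_comm, hk, mul_assoc] at h5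
    exact ⟨k, by rw [Nat.eq_of_mul_eq_mul_left (deg_pos χ) h5, mul_comm]⟩
  refine ⟨_, _, _, rfl, h1.symm, by omega, ?_, fun h6 => ?_, fun h6 => ?_, fun h6 => ?_,
    fun h6 χ hχ h7 => ?_, fun h6 χ hχ h7 => ?_⟩
  · rw [h.deg_rel hθ, h.sum_X, h.δ_triv, deg_triv, Finset.sum_congr rfl
      (g := fun _ => ((a * x : ℕ) : ℤ)) fun χ hχ => by
        rw [(Finset.mem_filter.1 hχ).2, h3 χ hχ, one_mul],
      Finset.sum_congr (s₁ := Xb) rfl (g := fun χ => -(deg χ : ℤ)) fun χ hχ => by
        rw [(Finset.mem_filter.1 hχ).2, neg_one_mul],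
      ← Finset.sum_filter_add_sum_filter_not Xb (fun χ => deg χ = p - 1),
      Finset.sum_congr (s₁ := Xb.filter fun χ => deg χ = p - 1) rfl
        (g := fun _ => -((p - 1 : ℕ) : ℤ)) fun χ hχ => by rw [(Finset.mem_filter.1 hχ).2],
      Finset.sum_congr (s₁ := Xb.filter fun χ => ¬ deg χ = p - 1) rfl
        (g := fun _ => -((s * (p + a) : ℕ) : ℤ)) fun χ hχ => by rw [h2 χ hχ]]
    simp only [Finset.sum_const, nsmul_eq_mul]
    have h6 := hpar.z1_eq
    have h7 := hpar.z2_eq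
    rw [← h1] at h4
    generalize (Xb.filter fun χ => deg χ = p - 1).card = C at *
    generalize (Xb.filter fun χ => ¬ deg χ = p - 1).card = D at *
    generalize ((X.erase (triv G)).filter (fun χ => δ χ = 1)).card = A at *
    zify at h4 h6 h7
    push_cast [Nat.cast_sub hp.out.one_le]
    linear_combination (A : ℤ) * h6 - (D : ℤ) * h7 - h4
  · obtain ⟨χ, hχ⟩ := Finset.card_pos.1 h6
    exact h5 χ (Finset.mem_erase.1 (Finset.mem_filter.1 hχ).1).2 (h3 χ hχ) hpar.mul_eq
  · obtain ⟨χ, hχ⟩ := Finset.card_pos.1 h6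
    exact h5 χ (Finset.mem_filter.1 (Finset.mem_filter.1 hχ).1).1 (Finset.mem_filter.1 hχ).2
      (by rw [hpar.N_eq])
  · obtain ⟨χ, hχ⟩ := Finset.card_pos.1 h6
    exact h5 χ (Finset.mem_filter.1 (Finset.mem_filter.1 hχ).1).1 (h2 χ hχ)
      (by rw [mul_comm, hpar.mul_eq])
  · exact h2 χ (Finset.mem_filter.2 ⟨Finset.mem_filter.2 ⟨hχ, h7⟩,
      Finset.card_filter_eq_zero_iff.1 h6 χ (Finset.mem_filter.2 ⟨hχ, h7⟩)⟩)
  · exact not_not.1 (Finset.card_filter_eq_zero_iff.1 h6 χ (Finset.mem_filter.2 ⟨hχ, h7⟩))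

theorem deg_ne_e {θ : IrrCharacter G} (hθ : θ ∈ Y) (hε : ε = 1) : deg θ ≠ e := fun hd => by
  classical
  subst hε
  obtain ⟨A, C, D, hA, -, h1, h2, h3, -⟩ := exists_counts hP hC h he hpar hn hperf hθ
  have ht := two_le_t hP hC h he hpar hn hperf
  have he2 : 2 ≤ e := he ▸ two_le_relIndex hP hperf
  obtain ⟨θ', hθ', hne⟩ := Finset.exists_mem_ne (h.card_Y ▸ ht : 1 < Y.card) θ
  have h4 := h.sum_deg_pos_le hθ hθ' hne.symm
  rw [← Finset.add_sum_erase _ _ (Finset.mem_filter.2 ⟨h.triv_mem, h.δ_triv⟩), deg_triv,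
    ← Finset.filter_erase, Finset.sum_congr rfl (g := fun _ => a * x) fun χ hχ => by
      simp only [Finset.mem_filter, Finset.mem_erase] at hχ
      exact X_pos' hP hC h he hpar hn hperf hχ.1.2 hχ.2 hχ.1.1, Finset.sum_const, smul_eq_mul,
    hA, hd] at h4
  rw [hd, one_mul, left_eq_add, mul_eq_zero] at h2
  obtain ⟨b, rfl⟩ : ∃ b, a = b + 1 := ⟨a - 1, by have := hpar.two_le; omega⟩
  have h5 : A * b = C + D * (s + 1) := by
    have := h2.resolve_left (by exact_mod_cast hp.out.ne_zero)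
    zify; push_cast at this; linear_combination this
  have h6 := het hP h
  have h7 : (b + 1) * x = b * (e * t) + b + 1 := by
    have := hpar.z1_eq
    rw [← h6] at this
    zify at this ⊢; linear_combination this
  have h8 : e + D * s = 1 + A * (b + 1) := by rw [h1]; zify at h5 ⊢; linear_combination -h5
  have h9 : e * (A * b * t + 1) + D * s ≤ e * e := by
    rw [h7, sq] at h4
    zify at h4 h8 ⊢; linear_combination h4 + h8
  have h10 := Nat.le_of_mul_le_mul_left (le_self_add.trans h9) (by omega)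
  have hA1 : 1 ≤ A := Nat.pos_of_ne_zero (by rintro rfl; simp at h8; omega)
  have h11 : A * (b * t) ≤ A * (b + 1) := by rw [← mul_assoc]; omega
  have h12 := Nat.le_of_mul_le_mul_left h11 hA1
  have h13 := Nat.mul_le_mul_left b ht
  obtain rfl : b = 1 := by have := hpar.two_le; omega
  obtain rfl : t = 2 := by omega
  have h14 := hpar.hp
  obtain rfl : e = s := by omega
  have h15 : D * e = 0 := by omega
  have h16 := (Nat.Prime.dvd_mul Nat.prime_two).1 (h3 hA1)
  omega

theorem mul_deg_ne_z1 {θ : IrrCharacter G} (hθ : θ ∈ Y) (hε : ε = -1) : t * deg θ ≠ a * x :=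
    fun hd => by
  classical
  subst hε
  obtain ⟨A, C, D, -, -, h1, h2, h3, h4, -⟩ := exists_counts hP hC h he hpar hn hperf hθ
  have ht := two_le_t hP hC h he hpar hn hperf
  have h6 := het hP h
  obtain ⟨c1, c2, c3, c4⟩ := par_cop hpar
  have h7 : (a : ℤ) = t * -(A * (a - 1) - C - D * (s + 1)) := by
    apply mul_left_cancel₀ (show (p : ℤ) ≠ 0 by exact_mod_cast hp.out.ne_zero)
    have := hpar.z1_eq
    zify at this hd h6
    linear_combination (-t : ℤ) * h2 - this - hd - h6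
  obtain ⟨w, hw⟩ : t ∣ a := Int.natCast_dvd_natCast.1 ⟨_, h7⟩
  have h8 : (w : ℤ) = -(A * (a - 1) - C - D * (s + 1)) := by
    apply mul_left_cancel₀ (show (t : ℤ) ≠ 0 by omega)
    rw [← h7, hw]; push_cast; ring
  have hew : e = s * w := Nat.eq_of_mul_eq_mul_left h.t_pos (by
    have := hpar.hp; rw [hw] at this; zify at this h6 ⊢; linear_combination h6 - this)
  have hdw : deg θ = w * x := Nat.eq_of_mul_eq_mul_left h.t_pos (by rw [hd, hw]; ring)
  have h9 : s * w + D * s = 1 + A * a + w := by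
    rw [← hew, h1]; zify; linear_combination -h8
  have hG : Nat.card G = deg θ * (p * (s * (p + a))) := by
    rw [card_eq hP hC he hn, hpar.N_eq, hew, hdw]; ring
  have hcop : w.Coprime s := by
    rw [← Nat.isCoprime_iff_coprime]
    exact ⟨-(A * t + 1), w + D, by rw [hw] at h9; zify at h9; linear_combination h9⟩
  have hs2 := hpar.two_le_s
  have hw1 : w = 1 := by
    by_contra hw1
    obtain ⟨r, hr, hrw⟩ := Nat.exists_prime_and_dvd hw1
    obtain ⟨q, hq, hqs⟩ := Nat.exists_prime_and_dvd (n := s) (by omega)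
    obtain ⟨γ, hγ, hγp, hγv⟩ := exists_gamma hP hC h he (he ▸ two_le_relIndex hP hperf)
    have hra : r ∣ a := hw ▸ hrw.mul_left _
    have hv : ∀ χ : IrrCharacter G, deg θ ∣ deg χ → (χ : G → ℂ) γ = 0 := fun χ h10 =>
      vanish hG hr (eq_one_of_dvd (Nat.Coprime.mul_right (c1.coprime_dvd_left hra)
        (Nat.Coprime.mul_right (hcop.coprime_dvd_left hrw) (c4.coprime_dvd_left hra))) hr dvd_rfl)
        h10 (by rw [hγ, hew]; exact hrw.mul_left _)
    refine not_vanish h hθ hγp (hv θ dvd_rfl) fun χ hχ h10 => ?_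
    rcases h.sign_X χ hχ with h11 | h11
    · exact hv χ (by rw [X_pos' hP hC h he hpar hn hperf hχ h11 h10, ← hd]; exact dvd_mul_left _ _)
    rcases X_neg' hP hC h he hpar hn hχ h11 with h12 | h12
    · exact hγv χ hχ h11 h12
    · exact vanish (m := p * (w * x)) (by rw [hG, hdw]; ring) hq (eq_one_of_dvd
        (Nat.Coprime.mul_right c2 (Nat.Coprime.mul_right hcop.symm c3)) hq hqs) h12.symm.dvd
        (by rw [hγ, hew]; exact hqs.mul_right _)
  subst hw1
  rw [mul_one] at hw hew h9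
  subst hw hew
  have h10 : 1 ≤ A → a ∣ e := fun h10 => c4.dvd_of_dvd_mul_right (h3 h10)
  have h11 : 1 ≤ C → ¬ a ∣ e := fun h11 h12 => by
    have := Nat.eq_one_of_dvd_coprimes c3 h12 (c4.dvd_of_dvd_mul_right (h4 h11))
    omega
  rcases Nat.eq_zero_or_pos A with rfl | hA
  · obtain rfl : D = 0 := by
      by_contra h12
      have := Nat.mul_le_mul_right e (Nat.one_le_iff_ne_zero.2 h12)
      omega
    have := hpar.le
    exact h11 (by omega) (dvd_of_eq (by omega))
  · have h12 : a ∣ 2 := by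
      have h12 : a ∣ 1 + A * a + 1 := h9 ▸ dvd_add (h10 hA) ((h10 hA).mul_left _)
      rw [add_right_comm] at h12
      exact (Nat.dvd_add_left (dvd_mul_left _ _)).1 h12
    obtain rfl : a = 2 := le_antisymm (Nat.le_of_dvd (by norm_num) h12) ht
    obtain rfl : C = 0 := by by_contra h13; exact h11 (by omega) (h10 hA)
    rcases Nat.eq_zero_or_pos D with rfl | hD
    · omega
    · have := Nat.mul_le_mul_right e hD
      omega

omit hperf in
theorem main [IsSimpleGroup G] (hG : ¬ IsMulCommutative G) :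
    (∃ m : ℕ, p + 1 = 2 ^ m ∧ Nat.card G = p * ((p + 1) * (p + 2)) ∧
      2 * Nat.card (Sylow p G) = (p + 1) * (p + 2) ∧
      ∀ (F : Type) [Field F] [Fintype F], Fintype.card F = 2 ^ m → Nonempty (G ≃* PSL(2, F))) ∨
    (p = 13 ∧ Nat.card (Sylow p G) = 144 ∧ ∀ (F : Type) [Field F] [Fintype F],
      Fintype.card F = 3 → Nonempty (G ≃* Matrix.ProjectiveSpecialLinearGroup (Fin 3) F)) := by
  classical
  have hperf := commutator_eq_top hG
  obtain ⟨θ, hθ⟩ := h.Y_nonempty
  obtain ⟨rfl, hd⟩ : ε = 1 ∧ t * deg θ = s * (p + a) := by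
    rcases Y_cases hP h he hpar hn hperf hθ with ⟨h2, h3 | h3⟩ | ⟨h2, h3 | h3 | h3⟩
    exacts [(mul_deg_ne hP hC h he hpar hn h2 hθ h3).elim,
      (mul_deg_ne_z1 hP hC h he hpar hn hperf hθ h2 h3).elim,
      (deg_ne_e hP hC h he hpar hn hperf hθ h2 h3).elim,
      (not_big hP hC h he hpar hn le_rfl h.e_pos h3).elim, ⟨h2, h3⟩]
  obtain ⟨A, C, D, hA, hCD, h1, h2, -, h4, h5, -, hD0⟩ :=
    exists_counts hP hC h he hpar hn hperf hθ
  have ht := two_le_t hP hC h he hpar hn hperf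
  have h6 := het hP h
  obtain ⟨c1, c2, c3, c4⟩ := par_cop hpar
  have h7 : (s : ℤ) = t * (A * (a - 1) - C - D * (s + 1)) := by
    apply mul_left_cancel₀ (show (p : ℤ) ≠ 0 by exact_mod_cast hp.out.ne_zero)
    have := hpar.z2_eq
    zify at this hd h6
    linear_combination (t : ℤ) * h2 - this - hd + h6
  obtain ⟨w, hw⟩ : t ∣ s := Int.natCast_dvd_natCast.1 ⟨_, h7⟩
  have h8 : (w : ℤ) = A * (a - 1) - C - D * (s + 1) := by
    apply mul_left_cancel₀ (show (t : ℤ) ≠ 0 by omega)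
    rw [← h7, hw]; push_cast; ring
  have hew : e = a * w := Nat.eq_of_mul_eq_mul_left h.t_pos (by
    have := hpar.hp; rw [hw] at this; zify at this h6 ⊢; linear_combination h6 - this)
  have hdw : deg θ = w * (p + a) := Nat.eq_of_mul_eq_mul_left h.t_pos (by rw [hd, hw]; ring)
  have h9 : a * w + D * s + w = 1 + A * a := by
    rw [← hew, h1]; zify; linear_combination h8
  have hc : Nat.card G = deg θ * (p * (a * x)) := by
    rw [card_eq hP hC he hn, hpar.N_eq, hew, hdw]; ring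
  have hcop : w.Coprime a := by
    rw [← Nat.isCoprime_iff_coprime]
    exact ⟨D * t + 1, w - A, by rw [hw] at h9; zify at h9; linear_combination h9⟩
  have ha2 := hpar.two_le
  obtain ⟨γ, hγ, hγp, hγv⟩ := exists_gamma hP hC h he (he ▸ two_le_relIndex hP hperf)
  have hXp := fun χ => X_pos' (χ := χ) hP hC h he hpar hn hperf
  have hw1 : w = 1 := by
    by_contra hw1
    obtain ⟨r, hr, hrw⟩ := Nat.exists_prime_and_dvd hw1
    obtain ⟨q, hq, hqa⟩ := Nat.exists_prime_and_dvd (n := a) (by omega)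
    have hrs : r ∣ s := hw ▸ hrw.mul_left _
    have hv : ∀ χ : IrrCharacter G, deg θ ∣ deg χ → (χ : G → ℂ) γ = 0 := fun χ h10 =>
      vanish hc hr (eq_one_of_dvd (Nat.Coprime.mul_right (c2.coprime_dvd_left hrs)
        (Nat.Coprime.mul_right (hcop.coprime_dvd_left hrw) (c3.coprime_dvd_left hrs))) hr dvd_rfl)
        h10 (by rw [hγ, hew]; exact hrw.mul_left _)
    refine not_vanish h hθ hγp (hv θ dvd_rfl) fun χ hχ h10 => ?_
    rcases h.sign_X χ hχ with h11 | h11
    · exact vanish (m := p * (w * (p + a))) (by rw [hc, hdw]; ring) hq (eq_one_of_dvd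
        (Nat.Coprime.mul_right c1 (Nat.Coprime.mul_right hcop.symm c4)) hq hqa)
        (hXp χ hχ h11 h10).symm.dvd (by rw [hγ, hew]; exact hqa.mul_right _)
    rcases X_neg' hP hC h he hpar hn hχ h11 with h12 | h12
    · exact hγv χ hχ h11 h12
    · exact hv χ (by rw [h12, ← hd]; exact dvd_mul_left _ _)
  subst hw1
  rw [mul_one] at hw hew h9
  rw [one_mul] at hdw
  subst hw hew
  have h10 := hpar.hp
  have h11 := hpar.hx
  have hN := hpar.N_eq
  obtain rfl : D = 0 := by
    by_contra h12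
    have h13 := Nat.le_of_dvd (by omega) (c3.dvd_of_dvd_mul_right (h5 (by omega)))
    obtain rfl : e = s := le_antisymm hpar.le h13
    have h14 : A = D + 1 := Nat.eq_of_mul_eq_mul_right (show 0 < e by omega) (by
      rw [add_mul]; omega)
    obtain rfl : C = 0 := by
      by_contra h15
      have := Nat.eq_one_of_dvd_coprimes c4 dvd_rfl (c3.dvd_of_dvd_mul_left (h4 (by omega)))
      omega
    haveI : Fact (Nat.Prime 2) := ⟨Nat.prime_two⟩
    have h15 : ¬ 2 ∣ (zpowers γ).index := by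
      have h15 := card_mul_index (zpowers γ)
      rw [Nat.card_zpowers, hγ, hc, hdw, show (p + e) * (p * (e * x)) = e * (p * (x * (p + e))) by
        ring] at h15
      rw [Nat.eq_of_mul_eq_mul_left (by omega) h15]
      exact eq_one_of_dvd (Nat.Coprime.mul_right c1 (Nat.Coprime.mul_right c3 c4)) Nat.prime_two
        (by omega)
    obtain ⟨T⟩ : Nonempty (Sylow 2 (zpowers γ)) := inferInstance
    have h16 : IsPGroup 2 ((T : Subgroup (zpowers γ)).map (zpowers γ).subtype) := T.2.map _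
    refine Rank2.not_isCyclic_sylow hG (h16.toSylow ?_) (isCyclic_of_le (map_subtype_le _))
    rw [index_map_subtype]
    exact fun h17 => ((Nat.Prime.dvd_mul Nat.prime_two).1 h17).elim T.not_dvd_index h15
  obtain rfl : A = 1 := Nat.eq_of_mul_eq_mul_right (show 0 < e by omega) (by omega)
  obtain ⟨χ, hχ⟩ := Finset.card_eq_one.1 hA
  have hχ' := hχ ▸ Finset.mem_singleton_self χ
  rw [Finset.mem_filter, Finset.mem_erase] at hχ'
  have hχd := hXp χ hχ'.1.2 hχ'.2 hχ'.1.1
  have hc' : Nat.card G = deg χ * (p * (p + e)) := by rw [hc, hdw, hχd]; ring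
  have hpe : (p + e).Coprime p := by simpa using c1
  have hz1 : (e * x).Coprime (p + e) → ∀ (g : G) (q : ℕ), q.Prime → q ∣ e * x → q ∣ orderOf g →
      (χ : G → ℂ) g = 0 := fun h12 g q hq h13 h14 =>
    vanish hc' hq (eq_one_of_dvd (Nat.Coprime.mul_right (Nat.Coprime.mul_left c1
      (by rw [← h11] at c2 ⊢; simpa using c3.symm)) h12) hq h13) dvd_rfl h14
  have hz2 : (e * x).Coprime (p + e) → ∀ (g : G) (q : ℕ), q.Prime → q ∣ p + e → q ∣ orderOf g →
      (θ : G → ℂ) g = 0 := fun h12 g q hq h13 h14 =>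
    vanish hc hq (eq_one_of_dvd (Nat.Coprime.mul_right hpe h12.symm) hq h13) dvd_rfl h14
  have hz3 : ∀ g : G, g ≠ 1 → ¬ p ∣ orderOf g →
      ∃ q : ℕ, q.Prime ∧ q ∣ orderOf g ∧ (q ∣ p + e ∨ q ∣ e * x) := fun g hg1 hg => by
    obtain ⟨q, hq, hqg⟩ := Nat.exists_prime_and_dvd (n := orderOf g) (by simpa using hg1)
    have h12 := hqg.trans (orderOf_dvd_natCard g)
    rw [hc, hdw, hq.dvd_mul, hq.dvd_mul] at h12
    refine ⟨q, hq, hqg, h12.imp_right fun h13 => h13.resolve_left fun h14 => hg ?_⟩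
    rwa [← (Nat.prime_dvd_prime_iff_eq hq hp.out).1 h14]
  rcases Nat.eq_zero_or_pos C with rfl | hC1
  · left
    obtain rfl : e = 2 := by omega
    have h12 : 2 * x = p + 1 := by omega
    have h13 : (2 * x).Coprime (p + 2) := by
      rw [h12]; exact Nat.coprime_self_add_right.2 (Nat.coprime_one_right _)
    have h14 : ∀ g, ¬ p ∣ orderOf g → (θ : G → ℂ) g = 1 + (χ : G → ℂ) g := fun g hg => by
      have := h.rel θ hθ g hg
      rw [h.sum_X, hχ, Finset.card_eq_zero.1 hCD, h.δ_triv, Finset.sum_singleton, hχ'.2] at this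
      simpa using this
    have hreg : ∀ (g : G) (q : ℕ), q.Prime → q ∣ 2 * x → q ∣ orderOf g → ¬ p ∣ orderOf g :=
      fun g q hq h15 h16 h17 => by
        rw [orderOf_eq_of_dvd hP hC h17] at h16
        exact eq_one_of_dvd (show p.Coprime (p + 1) by simp) hq h16 (h12 ▸ h15)
    obtain ⟨m, hm, hF⟩ := psl2_of_deg (p := p + 2) (G := G) (by omega)
      (by use s + 1; omega) (by
        rw [hc, hdw, h12, show p + 2 - 1 = p + 1 from rfl, Nat.add_sub_cancel]; ring) χ.2
      (by rw [← deg_cast, hχd, h12]; rfl) (h12 ▸ hz1 h13 :) (fun g hg1 hg => by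
        by_cases hpg : p ∣ orderOf g
        · rw [h.val_X χ hχ'.1.2 g hpg, hχ'.2]; simp
        obtain ⟨q, hq, h15, h16⟩ := hz3 g hg1 hpg
        have h17 := h14 g hpg
        rw [hz2 h13 g q hq (h16.resolve_right fun h17 => hg q hq (h12 ▸ h17 :) h15) h15] at h17
        rw [show (χ : G → ℂ) g = -1 by linear_combination -h17]
        simp) (fun g q hq h15 h16 => by
        replace h15 : q ∣ 2 * x := h12 ▸ h15
        have h17 := card_subgroup_dvd_card (centralizer ({g} : Set G))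
        rw [hc, hdw] at h17
        have h18 := (coprime_card_centralizer h13 (fun g q r hq hr h18 h19 h20 h21 => by
          have := h14 g (hreg g q hq h18 h20)
          rw [hz1 h13 g q hq h18 h20, hz2 h13 g r hr h19 h21] at this
          simp at this) hq h15 h16).dvd_of_dvd_mul_left h17
        refine (Nat.Coprime.dvd_of_dvd_mul_left ?_ h18).trans h12.dvd
        refine ((Nat.Prime.coprime_iff_not_dvd hp.out).2 fun h19 => hreg g q hq h15 h16 ?_).symm
        rw [orderOf_eq_of_dvd_card_centralizer hP hC _ h19]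
        rintro rfl
        exact hq.not_dvd_one (by simpa using h16))
    exact ⟨m, by omega, by rw [hc, hdw, h12]; ring, by rw [hn, hN, ← mul_assoc, h12], hF⟩
  right
  have h12 : s ∣ e + 1 := by
    have h12 := c3.dvd_of_dvd_mul_left (h4 hC1)
    rw [← h10, add_assoc, add_comm 1] at h12
    exact (Nat.dvd_add_right (dvd_mul_left _ _)).1 h12
  obtain rfl : s = e + 1 := by
    obtain ⟨k, hk⟩ := h12
    have := hpar.le
    obtain rfl : k = 1 := by
      by_contra h13
      have : 2 ≤ k := by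
        by_contra h14
        obtain rfl : k = 0 := by omega
        omega
      have := Nat.mul_le_mul_left s this
      omega
    omega
  obtain rfl : x = e * e := by rw [mul_add] at h10; omega
  have h13 : p + e = (e + 1) * (e + 1) := by rw [← h10]; ring
  have h14 : (e * (e * e)).Coprime (p + e) := Nat.Coprime.mul_left c4 (Nat.Coprime.mul_left c4 c4)
  have h15 := mul_card_le hP hC h he rfl ht hθ (by convert hχ) (fun g hg1 hg => by
      obtain ⟨q, hq, h15, h16⟩ := hz3 g hg1 hg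
      exact h16.imp (fun h17 => hz2 h14 g q hq h17 h15) fun h17 => hz1 h14 g q hq h17 h15)
    (by rw [hc, hn, hN, hχd, hdw, h13, ← h10]; ring)
  rw [hCD] at h15
  obtain rfl : e = 3 := by
    by_contra h16
    have := Nat.mul_le_mul (show 5 ≤ e + 1 by omega) (le_refl (C + 0))
    omega
  obtain rfl : p = 13 := by omega
  obtain ⟨ψ, hψ⟩ := Finset.card_eq_one.1 (hCD.trans (by omega) : _ = 1)
  have hψ' := hψ ▸ Finset.mem_singleton_self ψ
  rw [Finset.mem_filter] at hψ'
  exact ⟨rfl, by rw [hn, hN], fun F _ _ hF => psl33 hG (by rw [hc, hdw]) hP hC h he hθ hdw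
    (by convert hχ) hχd hψ (hD0 rfl ψ hψ'.1 hψ'.2) F hF⟩

end Cfsg.Lib.PrimeOne.Lt
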